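import Mathlib.AlgebraicGeometry.Group.Smooth
import Mathlib.CategoryTheory.Monoidal.Cartesian.Over
import Mathlib.CategoryTheory.Monoidal.Cartesian.Grp
import Mathlib.AlgebraicGeometry.Morphisms.Finite
import Mathlib.AlgebraicGeometry.Morphisms.Separated
import Mathlib.AlgebraicGeometry.Noetherian
import Mathlib.RingTheory.Etale.Field
import Mathlib.RingTheory.Etale.Pi
import Mathlib.RingTheory.Artinian.Module

/-!
# A finite group scheme over a perfect field is `G_red × G⁰`

A retraction `G ⟶ G_red` exists as the reduced algebra is etale, and a morphism to `G_red` from a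
finite scheme is determined by its restriction to the reduction.
-/

set_option autoImplicit false
set_option linter.style.haveILetI false
universe u

open CategoryTheory CategoryTheory.Limits MonoidalCategory CartesianMonoidalCategory MonObj GrpObj
  AlgebraicGeometry

namespace Groth.Agent.Lib.RedSplit98.Basic

noncomputable section

variable {k : Type u} [Field k]

/-- The algebra structure on the functions of a `k`-scheme. -/
abbrev alg (X : Over (Spec (CommRingCat.of k))) : Algebra k Γ(X.left, ⊤) :=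
  ((Scheme.ΓSpecIso (CommRingCat.of k)).inv ≫ X.hom.appTop).hom.toAlgebra

/-- The algebra map of a morphism of `k`-schemes. -/
def appAlg {X Y : Over (Spec (CommRingCat.of k))} (u : X ⟶ Y) :
    letI := alg X; letI := alg Y; Γ(Y.left, ⊤) →ₐ[k] Γ(X.left, ⊤) :=
  letI := alg X; letI := alg Y
  { u.left.appTop.hom with
    commutes' := fun c => by
      show u.left.appTop (Y.hom.appTop ((Scheme.ΓSpecIso (CommRingCat.of k)).inv c)) = _
      have h := congrArg Scheme.Hom.appTop (Over.w u)
      rw [Scheme.Hom.comp_appTop] at h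
      exact congr($h ((Scheme.ΓSpecIso (CommRingCat.of k)).inv c)) }

theorem module_finite (X : Over (Spec (CommRingCat.of k))) [IsFinite X.hom] :
    letI := alg X; Module.Finite k Γ(X.left, ⊤) := by
  letI := alg X
  have h : X.hom.appTop.hom.Finite := IsFinite.finite_app (f := X.hom) ⊤ (isAffineOpen_top _)
  have h2 : ((Scheme.ΓSpecIso (CommRingCat.of k)).inv ≫ X.hom.appTop).hom.Finite := by
    rw [CommRingCat.hom_comp]
    exact h.comp (RingHom.Finite.of_surjective _
      (ConcreteCategory.bijective_of_isIso (Scheme.ΓSpecIso (CommRingCat.of k)).inv).2)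
  exact h2

theorem isAffine_of_isFinite (X : Over (Spec (CommRingCat.of k))) [IsFinite X.hom] : IsAffine X.left :=
  isAffine_of_isAffineHom X.hom

theorem isArtinianRing_app (X : Over (Spec (CommRingCat.of k))) [IsFinite X.hom] :
    IsArtinianRing Γ(X.left, ⊤) := by
  letI := alg X
  haveI := module_finite X
  exact IsArtinianRing.of_finite k _

theorem discreteTopology (X : Over (Spec (CommRingCat.of k))) [IsFinite X.hom] :
    DiscreteTopology X.left := by
  haveI := isAffine_of_isFinite X
  haveI := isArtinianRing_app X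
  exact (Scheme.homeoOfIso X.left.isoSpec).symm.discreteTopology

variable [PerfectField k]

theorem formallyEtale (X : Over (Spec (CommRingCat.of k))) [IsFinite X.hom] [IsReduced X.left] :
    letI := alg X; Algebra.FormallyEtale k Γ(X.left, ⊤) := by
  letI := alg X
  haveI := module_finite X
  haveI := isArtinianRing_app X
  let e : Γ(X.left, ⊤) ≃ₐ[k] (∀ I : MaximalSpectrum Γ(X.left, ⊤), Γ(X.left, ⊤) ⧸ I.asIdeal) :=
    (IsArtinianRing.equivPi Γ(X.left, ⊤)).restrictScalars k
  haveI : ∀ I : MaximalSpectrum Γ(X.left, ⊤), Algebra.FormallyEtale k (Γ(X.left, ⊤) ⧸ I.asIdeal) := fun I => by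
    letI : Field (Γ(X.left, ⊤) ⧸ I.asIdeal) := Ideal.Quotient.field I.asIdeal
    haveI : Algebra.IsAlgebraic k (Γ(X.left, ⊤) ⧸ I.asIdeal) := Algebra.IsAlgebraic.of_finite k _
    exact Algebra.FormallyEtale.of_isSeparable k _
  rw [Algebra.FormallyEtale.iff_of_equiv e, Algebra.FormallyEtale.pi_iff]
  infer_instance

/-- A surjective closed immersion from a reduced finite scheme has a retraction. -/
theorem exists_retraction {Y X : Over (Spec (CommRingCat.of k))} [IsFinite X.hom] [IsReduced Y.left]
    (r : Y ⟶ X) [IsClosedImmersion r.left] [Surjective r.left] : ∃ π : X ⟶ Y, r ≫ π = 𝟙 Y := by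
  haveI := isAffine_of_isFinite X
  haveI : IsFinite Y.hom := by rw [← Over.w r]; infer_instance
  haveI := isAffine_of_isFinite Y
  letI := alg X; letI := alg Y
  haveI := formallyEtale Y
  have hs : Function.Surjective (appAlg r) := (IsClosedImmersion.isAffine_surjective_of_isAffine r.left).2
  have hnil : IsNilpotent (RingHom.ker (appAlg r : Γ(X.left, ⊤) →+* Γ(Y.left, ⊤))) := by
    haveI := isArtinianRing_app X
    obtain ⟨n, hn⟩ := IsArtinianRing.isNilpotent_nilradical (R := Γ(X.left, ⊤))
    refine ⟨n, le_bot_iff.mp ((Ideal.pow_right_mono ?_ n).trans hn.le)⟩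
    intro a ha
    have ha' : r.left.appTop a = 0 := ha
    refine (Scheme.isNilpotent_iff_basicOpen_eq_bot a).mpr ?_
    refine TopologicalSpace.Opens.ext (Set.eq_empty_iff_forall_notMem.mpr fun x hx => ?_)
    obtain ⟨y, rfl⟩ := r.left.surjective x
    have : y ∈ r.left ⁻¹ᵁ X.left.basicOpen a := hx
    rw [Scheme.preimage_basicOpen_top, ha', Scheme.basicOpen_zero] at this
    exact this
  let σ := Algebra.FormallySmooth.liftOfSurjective (AlgHom.id k Γ(Y.left, ⊤)) (appAlg r) hs hnil
  have hσ : (appAlg r).comp σ = AlgHom.id k _ := Algebra.FormallySmooth.comp_liftOfSurjective _ _ hs hnil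
  let p : X.left ⟶ Y.left :=
    X.left.isoSpec.hom ≫ Spec.map (CommRingCat.ofHom σ.toRingHom) ≫ Y.left.isoSpec.inv
  have hp : p.appTop = CommRingCat.ofHom σ.toRingHom := by
    have h : p ≫ Y.left.toSpecΓ = X.left.toSpecΓ ≫ Spec.map (CommRingCat.ofHom σ.toRingHom) := by
      simp only [p, Category.assoc, ← Scheme.isoSpec_hom, Iso.inv_hom_id, Category.comp_id]
    have h2 := congrArg Scheme.Hom.appTop h
    simp only [Scheme.Hom.comp_appTop, Scheme.toSpecΓ_appTop, Scheme.ΓSpecIso_naturality] at h2
    rw [← cancel_epi (Scheme.ΓSpecIso Γ(Y.left, ⊤)).hom]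
    exact h2
  refine ⟨Over.homMk p (ext_of_isAffine ?_), ?_⟩
  · rw [Scheme.Hom.comp_appTop, hp, ← cancel_epi (Scheme.ΓSpecIso (CommRingCat.of k)).inv]
    ext c
    exact σ.commutes c
  · refine Over.OverMorphism.ext (ext_of_isAffine ?_)
    change (r.left ≫ p).appTop = Scheme.Hom.appTop (𝟙 Y.left)
    rw [Scheme.Hom.comp_appTop, hp, Scheme.Hom.id_appTop]
    ext b
    exact AlgHom.congr_fun hσ b

/-- Morphisms from a finite scheme to a finite reduced one agree once they agree on reduced sources. -/
theorem hom_ext_reduced {T Y : Over (Spec (CommRingCat.of k))} [IsFinite T.hom] [IsFinite Y.hom]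
    [IsReduced Y.left] (u v : T ⟶ Y)
    (h : ∀ (T' : Over (Spec (CommRingCat.of k))) [IsReduced T'.left] (j : T' ⟶ T), j ≫ u = j ≫ v) :
    u = v := by
  haveI := isAffine_of_isFinite T
  haveI := isAffine_of_isFinite Y
  haveI := isArtinianRing_app T
  letI := alg T; letI := alg Y
  haveI := formallyEtale Y
  let q : Γ(T.left, ⊤) →+* Γ(T.left, ⊤) ⧸ nilradical Γ(T.left, ⊤) := Ideal.Quotient.mk _
  let j : Spec (CommRingCat.of (Γ(T.left, ⊤) ⧸ nilradical Γ(T.left, ⊤))) ⟶ T.left :=
    Spec.map (CommRingCat.ofHom q) ≫ T.left.isoSpec.inv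
  haveI : IsReduced (Over.mk (j ≫ T.hom)).left := by
    haveI : _root_.IsReduced (Γ(T.left, ⊤) ⧸ nilradical Γ(T.left, ⊤)) :=
      (Ideal.isRadical_iff_quotient_reduced _).mp (Ideal.radical_isRadical _)
    exact inferInstanceAs (IsReduced (Spec _))
  have hj := congrArg (fun f => Scheme.Hom.appTop f.left) (h (Over.mk (j ≫ T.hom)) (Over.homMk j rfl))
  simp only [Over.comp_left, Over.homMk_left, Scheme.Hom.comp_appTop] at hj
  have hjt : j.appTop = CommRingCat.ofHom q ≫ (Scheme.ΓSpecIso _).inv := by
    have h3 : j ≫ T.left.toSpecΓ = Spec.map (CommRingCat.ofHom q) := by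
      simp only [j, Category.assoc, ← Scheme.isoSpec_hom, Iso.inv_hom_id, Category.comp_id]
    have h4 := congrArg Scheme.Hom.appTop h3
    rw [Scheme.Hom.comp_appTop, Scheme.toSpecΓ_appTop] at h4
    rw [← cancel_mono (Scheme.ΓSpecIso (CommRingCat.of (Γ(T.left, ⊤) ⧸ nilradical Γ(T.left, ⊤)))).hom,
      Category.assoc, Iso.inv_hom_id, Category.comp_id, ← cancel_epi (Scheme.ΓSpecIso Γ(T.left, ⊤)).hom,
      ← Category.assoc, h4, Scheme.ΓSpecIso_naturality]
    rfl
  rw [hjt, ← Category.assoc, ← Category.assoc, cancel_mono] at hj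
  have heq : appAlg u = appAlg v :=
    Algebra.FormallyUnramified.lift_unique _ (IsArtinianRing.isNilpotent_nilradical) _ _
      (AlgHom.ext fun b => congr($hj b))
  refine Over.OverMorphism.ext (ext_of_isAffine ?_)
  ext b
  exact AlgHom.congr_fun heq b

section Grp

variable (G Gr G₀ : Over (Spec (CommRingCat.of k))) [GrpObj G] [GrpObj Gr] [GrpObj G₀] [IsFinite G.hom]
  (r : Gr ⟶ G) [IsMonHom r] [IsClosedImmersion r.left] [IsReduced Gr.left] [Surjective r.left]
  (i₀ : G₀ ⟶ G) [IsMonHom i₀] [IsOpenImmersion i₀.left] [ConnectedSpace ↥G₀.left]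

omit [PerfectField k] [GrpObj Gr] [IsMonHom r] [IsMonHom i₀] [IsOpenImmersion i₀.left]
  [ConnectedSpace ↥G₀.left] in
/-- A morphism from a reduced scheme factors through a surjective closed immersion. -/
theorem exists_lift {T : Over (Spec (CommRingCat.of k))} [IsReduced T.left] (g : T ⟶ G) :
    ∃ g' : T ⟶ Gr, g' ≫ r = g := by
  haveI : Surjective (pullback.fst g.left r.left) := inferInstance
  haveI : IsClosedImmersion (pullback.fst g.left r.left) := inferInstance
  haveI := isIso_of_isClosedImmersion_of_surjective (pullback.fst g.left r.left)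
  refine ⟨Over.homMk (inv (pullback.fst g.left r.left) ≫ pullback.snd g.left r.left) ?_,
    Over.OverMorphism.ext ?_⟩
  · rw [← Over.w r, Category.assoc, ← pullback.condition_assoc, IsIso.inv_hom_id_assoc, Over.w g]
  · change (inv (pullback.fst g.left r.left) ≫ pullback.snd g.left r.left) ≫ r.left = g.left
    rw [Category.assoc, ← pullback.condition, IsIso.inv_hom_id_assoc]

theorem isIso_mul : IsIso ((r ⊗ₘ i₀) ≫ μ[G]) := by
  classical
  haveI := discreteTopology G
  -- the neutral point
  obtain ⟨s₀⟩ : Nonempty ↥(Spec (CommRingCat.of k)) := inferInstance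
  let e : G.left := (η[G]).left s₀
  have he0 : ∀ {T : Over (Spec (CommRingCat.of k))} (x : T.left), (1 : T ⟶ G).left x = e := by
    intro T x
    change ((toUnit T).left ≫ (η[G]).left) x = e
    haveI : Subsingleton ↥(𝟙_ (Over (Spec (CommRingCat.of k)))).left :=
      inferInstanceAs (Subsingleton ↥(Spec (CommRingCat.of k)))
    exact congrArg (η[G]).left (Subsingleton.elim _ _)
  have hrange : Set.range i₀.left ⊆ {e} := by
    rintro _ ⟨y, rfl⟩
    have h1 : i₀.left ((η[G₀]).left s₀) = e := by
      have := congr($(IsMonHom.one_hom (f := i₀)).left s₀)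
      exact this
    rw [Set.mem_singleton_iff, ← h1]
    exact PreconnectedSpace.constant inferInstance i₀.left.continuous
  -- the retraction
  obtain ⟨π, hπ⟩ := exists_retraction r
  haveI : IsFinite Gr.hom := by rw [← Over.w r]; infer_instance
  haveI : IsClosedImmersion i₀.left := .of_isPreimmersion _ (isClosed_discrete _)
  haveI : IsFinite G₀.hom := by rw [← Over.w i₀]; infer_instance
  have hfix : ∀ {T : Over (Spec (CommRingCat.of k))} [IsReduced T.left] (g : T ⟶ G), g ≫ π ≫ r = g := by
    intro T _ g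
    obtain ⟨g', rfl⟩ := exists_lift G Gr r g
    rw [Category.assoc, reassoc_of% hπ]
  let h : G ⟶ G := (π ≫ r)⁻¹ * 𝟙 G
  have hh : r ≫ h = 1 := by
    rw [MonObj.comp_mul, GrpObj.comp_inv, hfix r, Category.comp_id, inv_mul_cancel]
  have hhr : Set.range h.left ⊆ Set.range i₀.left := by
    rintro _ ⟨x, rfl⟩
    obtain ⟨z, rfl⟩ := r.left.surjective x
    refine ⟨(η[G₀]).left s₀, ?_⟩
    have h2 : h.left (r.left z) = e := by rw [← he0 z, ← hh]; rfl
    rw [h2]
    exact hrange ⟨_, rfl⟩
  let h₀ : G ⟶ G₀ := Over.homMk (IsOpenImmersion.lift i₀.left h.left hhr)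
    (by rw [← Over.w i₀, ← Category.assoc, IsOpenImmersion.lift_fac, Over.w h])
  have hh₀ : h₀ ≫ i₀ = h := Over.OverMorphism.ext (IsOpenImmersion.lift_fac _ _ hhr)
  -- points of `G₀` with reduced source are trivial
  have htriv : ∀ {T : Over (Spec (CommRingCat.of k))} [IsReduced T.left] (b : T ⟶ G₀), b ≫ i₀ = 1 := by
    intro T _ b
    haveI : Mono i₀ := Over.mono_of_mono_left i₀
    obtain ⟨g', hg'⟩ := exists_lift G Gr r (b ≫ i₀)
    haveI : IsClosedImmersion (η[G]).left := by
      haveI : IsClosedImmersion ((η[G]).left ≫ G.hom) := by rw [Over.w]; exact inferInstanceAs (IsClosedImmersion (𝟙 _))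
      exact IsClosedImmersion.of_comp _ G.hom
    haveI : Surjective (pullback.fst (b ≫ i₀).left (η[G]).left) := by
      refine ⟨fun x => ?_⟩
      obtain ⟨w, hw, -⟩ := Scheme.Pullback.exists_preimage_pullback
        (f := (b ≫ i₀).left) (g := (η[G]).left) x s₀
        (show i₀.left (b.left x) = e from hrange ⟨b.left x, rfl⟩)
      exact ⟨w, hw⟩
    haveI := isIso_of_isClosedImmersion_of_surjective (pullback.fst (b ≫ i₀).left (η[G]).left)
    have hfac : (b ≫ i₀).left =
        (inv (pullback.fst (b ≫ i₀).left (η[G]).left) ≫ pullback.snd _ _) ≫ (η[G]).left := by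
      rw [Category.assoc, ← pullback.condition, IsIso.inv_hom_id_assoc]
    apply Over.OverMorphism.ext
    rw [hfac]
    change _ = (toUnit T).left ≫ (η[G]).left
    congr 1
    have hw := congrArg (fun f => f ≫ G.hom) hfac
    simp only [Category.assoc, Over.w] at hw
    have h3 : (b ≫ i₀).left ≫ G.hom = T.hom := Over.w _
    change _ = T.hom
    rw [hw]
    exact ((Category.assoc _ _ _).symm.trans (Category.comp_id _)).symm
  let m : Gr ⊗ G₀ ⟶ G := (r ⊗ₘ i₀) ≫ μ[G]
  have hm : m = (fst Gr G₀ ≫ r) * (snd Gr G₀ ≫ i₀) := by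
    rw [Hom.mul_def]
    change _ ≫ _ = _
    congr 1

  haveI : IsFinite (Gr ⊗ G₀).hom := by
    change IsFinite (pullback.fst Gr.hom G₀.hom ≫ Gr.hom)
    infer_instance
  have hπm : m ≫ π = fst Gr G₀ := by
    refine hom_ext_reduced _ _ fun T' _ j => ?_
    haveI : Mono r := Over.mono_of_mono_left r
    rw [← cancel_mono r]
    simp only [Category.assoc]
    rw [← Category.assoc j m, hfix (j ≫ m), hm, MonObj.comp_mul, ← Category.assoc j (snd Gr G₀), htriv,
      _root_.mul_one]
  haveI : Mono i₀ := Over.mono_of_mono_left i₀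
  refine ⟨lift π h₀, ?_, ?_⟩
  · refine CartesianMonoidalCategory.hom_ext _ _ ?_ ?_
    · rw [Category.assoc, lift_fst, Category.id_comp]; exact hπm
    · rw [Category.assoc, lift_snd, Category.id_comp, ← cancel_mono i₀, Category.assoc, hh₀]
      change m ≫ ((π ≫ r)⁻¹ * 𝟙 G) = _
      rw [MonObj.comp_mul, GrpObj.comp_inv, ← Category.assoc, hπm, Category.comp_id, hm,
        inv_mul_cancel_left]
  · change lift π h₀ ≫ m = _
    rw [hm, MonObj.comp_mul, lift_fst_assoc, lift_snd_assoc, hh₀]
    exact mul_inv_cancel_left _ _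

end Grp

end

end Groth.Agent.Lib.RedSplit98.Basic
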